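import Cfsg.Agent.H925.Eight.PlusMain
import Cfsg.Agent.H612.Eight.EightTwo
import Cfsg.Agent.H612.Eight.EightThree

/-!
# **`PΩ⁺_{2m}(q)`, `m ≥ 4`, has at least eight character degrees** (helper925, helper612, S4899)
-/

set_option autoImplicit false

open Cfsg

namespace Cfsg.Agent.H925.Eight

open Cfsg.Agent.H664.Eight

universe u

theorem eight_op {m : ℕ} (hm : 4 ≤ m) {F : Type u} [Field F] [Finite F] : Eight (POmega F (quadFormPlus m F)) := by
  classical
  let _ := Fintype.ofFinite F
  by_cases h2 : m = 4 ∧ Nat.card F = 2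
  · obtain ⟨rfl, h⟩ := h2
    exact H612.Eight.eight_op82 (by rw [← Nat.card_eq_fintype_card]; exact h)
  by_cases h3 : m = 4 ∧ Nat.card F = 3
  · obtain ⟨rfl, h⟩ := h3
    exact H612.Eight.eight_op83 (by rw [← Nat.card_eq_fintype_card]; exact h)
  exact eight_gen F hm h2 h3

end Cfsg.Agent.H925.Eight
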